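import Mathlib.Algebra.Homology.DerivedCategory.Ext.Map
import Mathlib.Algebra.Homology.DerivedCategory.Ext.ExactSequences
import Mathlib.Algebra.Homology.DerivedCategory.Fractions
import Mathlib.Algebra.Homology.SingleHomology

/-!
# Effaceability of positive degree `Ext` by epimorphisms; bijectivity of maps on `Ext`
-/

universe w w' v v' u u'

open CategoryTheory CategoryTheory.Limits CategoryTheory.Abelian HomologicalComplex

namespace Groth.Agent.Lib.ExtEff.Basic

section

variable {A : Type u} [Category.{v} A] [Abelian A]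

lemma isZero_single_shift (M : A) {n : ℤ} (hn : n ≠ 0) :
    IsZero ((((CochainComplex.singleFunctor A 0).obj M)⟦n⟧).X 0) := by
  refine IsZero.of_iso ?_
    (CochainComplex.shiftFunctorObjXIso ((CochainComplex.singleFunctor A 0).obj M) n 0 _ rfl)
  exact isZero_single_obj_X (ComplexShape.up ℤ) 0 M (0 + n) (by omega)

/-- A degree zero epimorphism coming from a quasi-isomorphism to a single complex. -/
lemma exists_epi_lift {L : A} {X : CochainComplex A ℤ} [X.IsStrictlyLE 0]
    (s : X ⟶ (CochainComplex.singleFunctor A 0).obj L) [QuasiIso s] :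
    ∃ (L' : A) (p : L' ⟶ L) (j : (CochainComplex.singleFunctor A 0).obj L' ⟶ X), Epi p ∧
      j ≫ s = (CochainComplex.singleFunctor A 0).map p := by
  have hd : X.d 0 1 = 0 := (X.isZero_of_isStrictlyLE 0 1).eq_of_tgt _ _
  let j : (single A (ComplexShape.up ℤ) 0).obj (X.X 0) ⟶ X :=
    mkHomFromSingle (𝟙 _) (fun k hk => by
      obtain rfl : k = 1 := by simpa using hk.symm
      rw [hd, comp_zero])
  refine ⟨X.X 0, s.f 0 ≫ (singleObjXSelf (ComplexShape.up ℤ) 0 L).hom, j, ?_, ?_⟩
  · have h : homologyπ X 0 ≫ homologyMap s 0 =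
        cyclesMap s 0 ≫ homologyπ ((CochainComplex.singleFunctor A 0).obj L) 0 :=
      homologyπ_naturality s 0
    have : IsIso (homologyπ ((CochainComplex.singleFunctor A 0).obj L) 0) :=
      isIso_homologyπ _ (-1) 0 (by simp) (single_obj_d (ComplexShape.up ℤ) 0 L _ _)
    have hc : Epi (cyclesMap s 0) := by
      have : cyclesMap s 0 = homologyπ X 0 ≫ homologyMap s 0 ≫ inv (homologyπ _ 0) := by
        rw [reassoc_of% h, IsIso.hom_inv_id, Category.comp_id]
      rw [this]
      exact epi_comp _ _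
    have : IsIso (iCycles ((CochainComplex.singleFunctor A 0).obj L) 0) :=
      isIso_iCycles _ 0 1 (by simp) (single_obj_d (ComplexShape.up ℤ) 0 L _ _)
    have : Epi (iCycles X 0 ≫ s.f 0) := by
      rw [← cyclesMap_i]
      exact epi_comp _ _
    have : Epi (s.f 0) := epi_of_epi (iCycles X 0) _
    exact epi_comp _ _
  · refine from_single_hom_ext ?_
    change (j ≫ s).f 0 = ((single A (ComplexShape.up ℤ) 0).map _).f 0
    rw [comp_f, single_map_f_self, mkHomFromSingle_f]
    simp only [Category.assoc, Category.id_comp, Iso.hom_inv_id, Category.comp_id]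
    erw [Iso.hom_inv_id, Category.comp_id]
    rfl

/-- Every `Ext` class of positive degree is killed by an epimorphism onto its source. -/
theorem exists_epi_comp_eq_zero [HasExt.{w} A] {L M : A} {n : ℕ} (hn : 1 ≤ n) (x : Ext.{w} L M n) :
    ∃ (L' : A) (p : L' ⟶ L), Epi p ∧ (Ext.mk₀ p).comp x (zero_add n) = 0 := by
  letI := HasDerivedCategory.standard A
  let Y : CochainComplex A ℤ := ((CochainComplex.singleFunctor A 0).obj M)⟦(n : ℤ)⟧
  let c : DerivedCategory.Q.obj Y ≅ ((DerivedCategory.singleFunctor A 0).obj M)⟦(n : ℤ)⟧ :=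
    ((DerivedCategory.Q (C := A)).commShiftIso (n : ℤ)).app _
  let f : DerivedCategory.Q.obj ((CochainComplex.singleFunctor A 0).obj L) ⟶
      DerivedCategory.Q.obj Y := x.hom ≫ c.inv
  obtain ⟨X, _, s, hs, g, hfg⟩ := DerivedCategory.right_fac_of_isStrictlyLE f 0
  rw [DerivedCategory.isIso_Q_map_iff_quasiIso] at hs
  obtain ⟨L', p, j, hp, hj⟩ := exists_epi_lift s
  refine ⟨L', p, hp, Ext.ext ?_⟩
  rw [Ext.comp_hom, Ext.mk₀_hom, ShiftedHom.mk₀_comp, Ext.zero_hom, ← cancel_mono c.inv,
    zero_comp, Category.assoc]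
  change DerivedCategory.Q.map ((CochainComplex.singleFunctor A 0).map p) ≫ f = 0
  have hjg : j ≫ g = 0 :=
    from_single_hom_ext ((isZero_single_shift M (by omega)).eq_of_tgt _ _)
  rw [hfg, ← hj, Functor.map_comp, Category.assoc, IsIso.hom_inv_id_assoc, ← Functor.map_comp,
    hjg, Functor.map_zero]

end

variable {A : Type u} [Category.{v} A] [Abelian A] [HasExt.{w} A]
  {B : Type u'} [Category.{v'} B] [Abelian B] [HasExt.{w'} B]
  (φ : A ⥤ B) [φ.Additive] [PreservesFiniteLimits φ] [PreservesFiniteColimits φ] (M : A)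

lemma map_precomp {L' L : A} (p : L' ⟶ L) {n : ℕ} (x : Ext.{w} L M n) :
    φ.mapExtAddHom L' M n ((Ext.mk₀ p).comp x (zero_add n)) =
      (Ext.mk₀ (φ.map p)).comp (φ.mapExtAddHom L M n x) (zero_add n) := by
  rw [Functor.mapExtAddHom_apply, Functor.mapExtAddHom_apply, Ext.mapExactFunctor_comp,
    Ext.mapExactFunctor_mk₀]

lemma map_extClass {S : ShortComplex A} (hS : S.ShortExact) {n₀ n₁ : ℕ} (h : 1 + n₀ = n₁)
    (x : Ext.{w} S.X₁ M n₀) :
    φ.mapExtAddHom S.X₃ M n₁ (hS.extClass.comp x h) =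
      (hS.map_of_exact φ).extClass.comp (φ.mapExtAddHom S.X₁ M n₀ x) h := by
  rw [Functor.mapExtAddHom_apply, Functor.mapExtAddHom_apply, Ext.mapExactFunctor_comp,
    Ext.mapExactFunctor_extClass]
  rfl

theorem bijective_iff_effaceable :
    (∀ (L : A) (n : ℕ), Function.Bijective
      (fun f : Ext.{w} L M n => Ext.mapExactFunctor φ f)) ↔
      ((∀ L : A, Function.Bijective (fun f : L ⟶ M => φ.map f)) ∧
        ∀ (L : A) (n : ℕ), 1 ≤ n → ∀ x : Ext.{w'} (φ.obj L) (φ.obj M) n,
          ∃ (L' : A) (p : L' ⟶ L), Epi p ∧ (Ext.mk₀ (φ.map p)).comp x (zero_add n) = 0) := by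
  constructor
  · intro h
    refine ⟨fun L => ?_, fun L n hn x => ?_⟩
    · have h0 := h L 0
      change Function.Bijective (Ext.mapExactFunctor φ (X := L) (Y := M)) at h0
      rw [Ext.mapExactFunctor₀] at h0
      exact (Equiv.comp_bijective _ Ext.homEquiv₀.symm).1 ((Equiv.bijective_comp Ext.homEquiv₀ _).1 h0)
    · obtain ⟨y, rfl⟩ := (h L n).2 x
      obtain ⟨L', p, hp, hy⟩ := exists_epi_comp_eq_zero hn y
      refine ⟨L', p, hp, ?_⟩
      have h1 := map_precomp φ M p y
      rw [hy, map_zero] at h1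
      exact h1.symm
  · rintro ⟨h0, heff⟩
    suffices h : ∀ (n : ℕ) (L : A), Function.Bijective (φ.mapExtAddHom L M n) from
      fun L n => h n L
    intro n
    induction n with
    | zero =>
      intro L
      rw [Functor.mapExtAddHom_coe, Ext.mapExactFunctor₀]
      exact (Equiv.comp_bijective _ Ext.homEquiv₀.symm).2
        ((Equiv.bijective_comp Ext.homEquiv₀ _).2 (h0 L))
    | succ n ih =>
      intro L
      refine ⟨(injective_iff_map_eq_zero _).2 fun x hx => ?_, fun y => ?_⟩
      · obtain ⟨L', p, hp, hpx⟩ := exists_epi_comp_eq_zero (Nat.le_add_left 1 n) x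
        let S := ShortComplex.mk (kernel.ι p) p (kernel.condition p)
        have hS : S.ShortExact := { exact := ShortComplex.exact_kernel p }
        obtain ⟨y, hy⟩ := Ext.contravariant_sequence_exact₃ hS M x hpx (add_comm 1 n)
        rw [← hy, map_extClass φ M hS] at hx
        obtain ⟨z, hz⟩ := Ext.contravariant_sequence_exact₁ (hS.map_of_exact φ) _ _ _ hx
        obtain ⟨z', rfl⟩ := (ih L').2 z
        have : y = (Ext.mk₀ S.f).comp z' (zero_add n) := (ih _).1 (by
          rw [map_precomp]; exact hz.symm)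
        rw [← hy, this]
        exact hS.extClass_comp_assoc z'
      · obtain ⟨L', p, hp, hpy⟩ := heff L (n + 1) (Nat.le_add_left 1 n) y
        let S := ShortComplex.mk (kernel.ι p) p (kernel.condition p)
        have hS : S.ShortExact := { exact := ShortComplex.exact_kernel p }
        obtain ⟨z, hz⟩ :=
          Ext.contravariant_sequence_exact₃ (hS.map_of_exact φ) (φ.obj M) y hpy (add_comm 1 n)
        obtain ⟨z', rfl⟩ := (ih _).2 z
        exact ⟨hS.extClass.comp z' (add_comm 1 n), (map_extClass φ M hS _ _).trans hz⟩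

end Groth.Agent.Lib.ExtEff.Basic
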